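import Groth.Prelude.Def_ega3
import Groth.Agent.PicLaw.Basic
import Groth.Agent.LFFrame.Basic
import Groth.Agent.ProjMorph.Eventually

/-!
# Triviality on a space over a discrete reduced base
-/

set_option autoImplicit false
set_option linter.style.haveILetI false

universe u

open CategoryTheory CategoryTheory.Limits AlgebraicGeometry TopologicalSpace Opposite Function

noncomputable section

namespace Groth.Agent.PicSep28

open Groth.Agent.QCoh Groth.Agent.Props.GenLocus Groth.Agent.Props.GenPull

/-- The residue field point of an open point of a reduced scheme is an open immersion. -/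
theorem isOpenImmersion_fromSpecResidueField {D : Scheme.{u}} [IsReduced D] (w : D)
    (hw : IsOpen ({w} : Set D)) : IsOpenImmersion (D.fromSpecResidueField w) := by
  have hsub : Subsingleton (PrimeSpectrum (D.presheaf.stalk w)) := by
    refine ⟨fun p q => (D.fromSpecStalk w).isEmbedding.injective ?_⟩
    have key : ∀ a : Spec (D.presheaf.stalk w), (D.fromSpecStalk w) a = w := fun a => by
      have h : (D.fromSpecStalk w) a ∈ Set.range (D.fromSpecStalk w) := ⟨a, rfl⟩
      rw [Scheme.range_fromSpecStalk] at h
      exact h.mem_open hw rfl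
    exact (key p).trans (key q).symm
  haveI := hsub
  have hfield : IsField (D.presheaf.stalk w) := PrimeSpectrum.subsingleton_iff_isField_of_isReduced.mp hsub
  haveI : ∀ x, IsIso ((D.fromSpecResidueField w).stalkMap x) := by
    intro x
    refine (ConcreteCategory.isIso_iff_bijective _).mpr
      ⟨?_, (D.fromSpecResidueField w).stalkMap_surjective x⟩
    have hx : (D.fromSpecResidueField w) x = w := Scheme.fromSpecResidueField_apply w x
    have hfx : IsField (D.presheaf.stalk ((D.fromSpecResidueField w) x)) := by rw [hx]; exact hfield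
    letI := hfx.toField
    exact RingHom.injective ((D.fromSpecResidueField w).stalkMap x).hom
  refine IsOpenImmersion.of_isIso_stalkMap _ ⟨(D.fromSpecResidueField w).isEmbedding, ?_⟩
  rw [Scheme.range_fromSpecResidueField]
  exact hw

theorem exists_isGen_of_iso' {X : Scheme.{u}} {M : X.Modules} {V : X.Opens}
    (φ : M.restrict V.ι ≅ Coh.structureModule (V : Scheme.{u})) :
    ∃ σ : Γ(M, V), IsGen M V σ := by
  obtain ⟨e, he⟩ := LFFrame.exists_isFrame_of_split (M := M) (fun _ : Fin 1 => φ.inv) (fun _ => φ.hom)
    (fun i j => by simp [Subsingleton.elim i j]) (by simp)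
  refine ⟨e 0, (isGen_iff_isFrame _).mpr ?_⟩
  rwa [show (fun _ : Fin 1 => e 0) = e from funext fun i => by rw [Subsingleton.elim i 0]]

/-- Triviality over a discrete reduced base is triviality on the fibres. -/
theorem nonempty_iso_of_discrete {W D : Scheme.{u}} (g : W ⟶ D) [IsReduced D] [DiscreteTopology D]
    {L : W.Modules} (hL : PicF.IsInvertible L)
    (h : ∀ w : D, Nonempty (CohIII.fiberMod g L w ≅ Coh.structureModule (g.fiber w))) :
    Nonempty (L ≅ Coh.structureModule W) := by
  let U : D → W.Opens := fun w => g ⁻¹ᵁ ⟨{w}, isOpen_discrete _⟩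
  have hgen : ∀ w, ∃ e : Γ(L, U w), IsGen L (U w) e := by
    intro w
    haveI := isOpenImmersion_fromSpecResidueField w (isOpen_discrete _)
    haveI : IsOpenImmersion (g.fiberι w) :=
      show IsOpenImmersion (pullback.fst g (D.fromSpecResidueField w)) from inferInstance
    have hr : (g.fiberι w).opensRange = U w := Opens.ext (g.range_fiberι w)
    let e := (g.fiberι w).isoOpensRange
    obtain ⟨φ⟩ := h w
    have ψ : (Scheme.Modules.restrictFunctor (g.fiberι w).opensRange.ι).obj L ≅
        Coh.structureModule ((g.fiberι w).opensRange : Scheme.{u}) :=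
      (Scheme.Modules.restrictFunctorIsoPullback _).app L ≪≫
        (Scheme.Modules.pullbackCongr (show (g.fiberι w).opensRange.ι = e.inv ≫ g.fiberι w by
          rw [Iso.eq_inv_comp]; exact Scheme.Hom.isoOpensRange_hom_ι _)).app L ≪≫
        ((Scheme.Modules.pullbackComp e.inv (g.fiberι w)).app L).symm ≪≫
        (Scheme.Modules.pullback e.inv).mapIso φ ≪≫ QCoh.pullbackUnitIso e.inv
    rw [← hr]
    exact exists_isGen_of_iso' ψ
  choose e he using hgen
  refine PicLaw.nonempty_iso_of_transition U (fun x => ⟨g x, rfl⟩) e he (fun w => one' _)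
    (fun w => ProjMorph.isGen_one _) fun i j V hi hj => ?_
  by_cases hij : i = j
  · subst hij
    exact ⟨1, by rw [one_smul], by rw [one_smul]⟩
  · refine ⟨1, ?_, ?_⟩ <;>
      exact TopCat.Presheaf.section_ext ⟨_, (Scheme.Modules.isSheaf _)⟩ V _ _ fun x hx =>
        absurd ((show g x = i from hi hx).symm.trans (show g x = j from hj hx)) hij

end Groth.Agent.PicSep28

end
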