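import Groth.Agent.PicSep28.Fibre
import Groth.Agent.CBC.PicSep
import Groth.Agent.S3701
import Groth.Agent.S0388
import Groth.Agent.S9791
import Groth.Agent.S2280
import Mathlib.AlgebraicGeometry.Morphisms.QuasiFinite

/-!
# Triviality on the geometric fibres of a proper smooth morphism, through its Stein factorisation
-/

set_option autoImplicit false
set_option linter.style.haveILetI false

universe u

open CategoryTheory CategoryTheory.Limits AlgebraicGeometry TopologicalSpace Opposite Function

noncomputable section

namespace Groth.Agent.PicSep28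

open scoped Groth.Agent.PicLaw
open PicLaw (pl)

theorem isDomain_stalk_of_smooth {Z : Scheme.{u}} {K : Type u} [Field K] (s : Z ⟶ Spec (CommRingCat.of K))
    [Smooth s] (z : Z) : IsDomain (Z.presheaf.stalk z) :=
  (Groth.Agent.S9791.isNormalScheme_of_smooth_field s z).1

theorem isReduced_of_smooth {Z : Scheme.{u}} {K : Type u} [Field K] (s : Z ⟶ Spec (CommRingCat.of K))
    [Smooth s] : IsReduced Z := by
  haveI : ∀ z, IsDomain (Z.presheaf.stalk z) := isDomain_stalk_of_smooth s
  exact isReduced_of_isReduced_stalk _

theorem geometricallyIntegral_of_connected {Y S : Scheme.{u}} (f : Y ⟶ S) [Smooth f] [GeometricallyConnected f] :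
    GeometricallyIntegral f := by
  refine ⟨fun K _ y Z fst snd hZ => ?_⟩
  haveI : Smooth snd := MorphismProperty.of_isPullback hZ inferInstance
  haveI : IsLocallyNoetherian Z := LocallyOfFiniteType.isLocallyNoetherian snd
  haveI : ConnectedSpace Z := GeometricallyConnected.geometrically_connectedSpace (f := f) _ _ _ hZ
  exact (Groth.Agent.S2280.result Z).2.mpr ⟨inferInstance, isDomain_stalk_of_smooth snd⟩

/-- A morphism with a smooth composite with an étale morphism is smooth. -/
theorem smooth_of_comp_etale {X Y Z : Scheme.{u}} (a : X ⟶ Y) (v : Y ⟶ Z) [Etale v] [Smooth (a ≫ v)] : Smooth a := by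
  let s : X ⟶ pullback (a ≫ v) v := pullback.lift (𝟙 X) a (Category.id_comp _)
  haveI : Etale (pullback.fst (a ≫ v) v) := MorphismProperty.pullback_fst _ _ ‹Etale v›
  haveI : Etale (s ≫ pullback.fst (a ≫ v) v) := by
    rw [pullback.lift_fst]
    infer_instance
  haveI : Etale s := MorphismProperty.of_postcomp @Etale s (pullback.fst (a ≫ v) v) ‹_› ‹_›
  haveI : Smooth (pullback.snd (a ≫ v) v) := MorphismProperty.pullback_snd _ _ ‹Smooth (a ≫ v)›
  rw [← pullback.lift_snd (f := a ≫ v) (g := v) (𝟙 X) a (Category.id_comp _)]
  infer_instance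

variable {W T : Scheme.{u}} (π : W ⟶ T) [IsProper π] [Smooth π]

theorem stein_etale : IsFinite π.fromNormalization ∧ Etale π.fromNormalization :=
  S3701.result π fun _Ω _ _ σ => isReduced_of_smooth (pullback.snd π σ)

theorem smooth_toNormalization : Smooth π.toNormalization := by
  haveI := (stein_etale π).2
  haveI : Smooth (π.toNormalization ≫ π.fromNormalization) := by
    rw [Scheme.Hom.toNormalization_fromNormalization]; infer_instance
  exact smooth_of_comp_etale π.toNormalization π.fromNormalization

theorem isProper_toNormalization : IsProper π.toNormalization := by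
  haveI : IsProper (π.toNormalization ≫ π.fromNormalization) := by
    rw [Scheme.Hom.toNormalization_fromNormalization]; infer_instance
  exact IsProper.of_comp π.toNormalization π.fromNormalization

theorem geometricallyIntegral_toNormalization : GeometricallyIntegral π.toNormalization := by
  haveI := smooth_toNormalization π
  haveI := (S0388.result π).1
  exact geometricallyIntegral_of_connected _

/-- The points of the Stein factorisation over which the module is trivial. -/
def triv (L : W.Modules) : Set π.normalization :=
  {z | Nonempty (CohIII.fiberMod π.toNormalization L z ≅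
    Coh.structureModule (π.toNormalization.fiber z))}

theorem isClosed_triv {L : W.Modules} (hL : PicF.IsInvertible L) : IsClosed (triv π L) := by
  haveI := smooth_toNormalization π
  haveI := isProper_toNormalization π
  haveI := geometricallyIntegral_toNormalization π
  exact CBC.SeesawConn.isClosed_trivial π.toNormalization (fun _ => inferInstance) hL

omit [IsProper π] [Smooth π] in
/-- Triviality on a fibre can be checked after a field extension. -/
theorem fiber_trivial_descent {T' : Scheme.{u}} (q : W ⟶ T') [IsProper q] [GeometricallyIntegral q]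
    (z : T') {K : Type u} [Field K] {X' : Scheme.{u}} (p : X' ⟶ q.fiber z)
    (s : X' ⟶ Spec (CommRingCat.of K)) (y : Spec (CommRingCat.of K) ⟶ Spec (T'.residueField z))
    (H : IsPullback p s (q.fiberToSpecResidueField z) y) {M : W.Modules} (hM : PicF.IsInvertible M)
    (h3 : pl p (pl (q.fiberι z) (PicGrp.cls M hM)) = 1) :
    Nonempty (CohIII.fiberMod q M z ≅ Coh.structureModule (q.fiber z)) := by
  haveI : IsProper (q.fiberToSpecResidueField z) :=
    show IsProper (pullback.snd q (T'.fromSpecResidueField z)) from inferInstance
  have := (inferInstance : IsIntegral (q.fiber z))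
  haveI : Nonempty X' := by
    obtain ⟨pt₃⟩ : Nonempty ↥(Spec (CommRingCat.of K)) :=
      inferInstanceAs (Nonempty (PrimeSpectrum K))
    obtain ⟨w⟩ := (inferInstance : Nonempty (q.fiber z))
    haveI : Subsingleton ↥(Spec (T'.residueField z)) :=
      inferInstanceAs (Subsingleton (PrimeSpectrum (T'.residueField z)))
    obtain ⟨a, -⟩ := Scheme.exists_preimage_of_isPullback H w pt₃ (Subsingleton.elim _ _)
    exact ⟨a⟩
  obtain ⟨M', hM', hMM'⟩ := PicGrp.exists_eq_cls (PicGrp.cls M hM)⁻¹
  have hF := PicLoc.isInvertible_pullback (q.fiberι z) hM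
  have hF' := PicLoc.isInvertible_pullback (q.fiberι z) hM'
  have hs := CBC.PicSep.nontrivial_descent (k := T'.residueField z) (K := K)
    (q.fiberToSpecResidueField z) y p s H hF
    ((PicGrp.cls_eq_one_iff (PicLoc.isInvertible_pullback p hF)).mp (by
      rw [PicLaw.cls_pullback _ hF, PicLaw.cls_pullback _ hM, h3])).some
  have ht := CBC.PicSep.nontrivial_descent (k := T'.residueField z) (K := K)
    (q.fiberToSpecResidueField z) y p s H hF'
    ((PicGrp.cls_eq_one_iff (PicLoc.isInvertible_pullback p hF')).mp (by
      rw [PicLaw.cls_pullback _ hF', PicLaw.cls_pullback _ hM', ← hMM', map_inv, map_inv, h3,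
        inv_one])).some
  refine Cube.Seesaw.iso_of_sections
    (isField_of_universallyClosed (K := T'.residueField z) (q.fiberToSpecResidueField z))
    hF hF' ?_ hs ht
  refine (PicGrp.cls_eq_one_iff (PicLaw.isInvertible_tensor hF hF')).mp ?_
  rw [PicLaw.cls_tensor hF hF', PicLaw.cls_pullback _ hM, PicLaw.cls_pullback _ hM', ← hMM',
    ← map_mul, mul_inv_cancel, map_one]

/-- Triviality on a geometric fibre is triviality on the corresponding fibres of the Stein factorisation. -/
theorem geom_trivial_iff {L : W.Modules} (hL : PicF.IsInvertible L) {Ω : Type u} [Field Ω]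
    (t : Spec (CommRingCat.of Ω) ⟶ T) {W' : Scheme.{u}} (p : W' ⟶ W) (s : W' ⟶ Spec (CommRingCat.of Ω))
    (H : IsPullback p s π t) :
    pl p (PicGrp.cls L hL) = 1 ↔
      ∀ z : π.normalization, π.fromNormalization z ∈ Set.range t → z ∈ triv π L := by
  haveI := (stein_etale π).1
  haveI := (stein_etale π).2
  haveI := isProper_toNormalization π
  haveI := geometricallyIntegral_toNormalization π
  let q := π.toNormalization
  let r := π.fromNormalization
  have hqr : q ≫ r = π := π.toNormalization_fromNormalization
  let D := pullback r t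
  let rD : D ⟶ Spec (CommRingCat.of Ω) := pullback.snd r t
  let fD : D ⟶ π.normalization := pullback.fst r t
  let g : W' ⟶ D := pullback.lift (p ≫ q) s (by rw [Category.assoc, hqr, H.w])
  have hg1 : g ≫ fD = p ≫ q := pullback.lift_fst _ _ _
  have hg2 : g ≫ rD = s := pullback.lift_snd _ _ _
  have Hg : IsPullback p g q fD := by
    refine IsPullback.of_bot ?_ hg1.symm (IsPullback.of_hasPullback r t)
    change IsPullback p (g ≫ rD) (q ≫ r) t
    rw [hg2, hqr]; exact H
  haveI : IsFinite rD := MorphismProperty.pullback_snd r t ‹_›
  haveI : Etale rD := MorphismProperty.pullback_snd r t ‹_›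
  haveI : IsReduced D := isReduced_of_smooth rD
  haveI : IsLocallyArtinian D := IsLocallyArtinian.of_locallyQuasiFinite rD
  haveI : DiscreteTopology D := inferInstance
  have hsq : ∀ w : D, ∃ m : g.fiber w ⟶ q.fiber (fD w),
      IsPullback m (g.fiberToSpecResidueField w) (q.fiberToSpecResidueField (fD w))
        (Spec.map (fD.residueFieldMap w)) ∧ m ≫ q.fiberι (fD w) = g.fiberι w ≫ p := fun w =>
    ⟨_, isPullback_fiberToSpecResidueField_of_isPullback Hg w, pullback.lift_fst _ _ _⟩
  constructor
  · intro h0 z hz
    obtain ⟨pt, hpt⟩ := hz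
    obtain ⟨w, hw, -⟩ := Scheme.exists_preimage_of_isPullback (IsPullback.of_hasPullback r t) z pt hpt.symm
    change fD w = z at hw
    subst hw
    obtain ⟨m, Hm, hm⟩ := hsq w
    refine fiber_trivial_descent q (fD w) _ _ _ Hm hL ?_
    rw [← PicLaw.pl_comp, hm, PicLaw.pl_comp, h0, map_one]
  · intro h
    have hL' := PicLoc.isInvertible_pullback p hL
    have key : Nonempty ((Scheme.Modules.pullback p).obj L ≅ Coh.structureModule W') := by
      refine nonempty_iso_of_discrete g hL' fun w => ?_
      have hw := h (fD w) ⟨rD w, by
        rw [← Scheme.Hom.comp_apply, ← Scheme.Hom.comp_apply]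
        exact congrArg (fun k : D ⟶ T => k w) pullback.condition.symm⟩
      have h1 : pl (q.fiberι (fD w)) (PicGrp.cls L hL) = 1 := by
        rw [← PicLaw.cls_pullback _ hL]
        exact (PicGrp.cls_eq_one_iff _).mpr hw
      refine (PicGrp.cls_eq_one_iff (PicLoc.isInvertible_pullback (g.fiberι w) hL')).mp ?_
      obtain ⟨m, -, hm⟩ := hsq w
      rw [PicLaw.cls_pullback _ hL', PicLaw.cls_pullback _ hL, ← PicLaw.pl_comp, ← hm,
        PicLaw.pl_comp, h1, map_one]
    rw [← PicLaw.cls_pullback _ hL]
    exact (PicGrp.cls_eq_one_iff _).mpr key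

end Groth.Agent.PicSep28

end
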