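import Groth.Agent.PicSep28.Geom
import Groth.Agent.CBC.PicDVR
import Groth.Agent.S9209
import Groth.Prelude.Def_PicRel2

/-!
# Relative Picard schemes of proper smooth morphisms are separated
-/

set_option autoImplicit false
set_option linter.style.haveILetI false

universe u

open CategoryTheory CategoryTheory.Limits AlgebraicGeometry TopologicalSpace Opposite Function

noncomputable section

namespace Groth.Agent.PicSep28

open scoped Groth.Agent.PicLaw
open PicLaw (pl)
open Groth.Agent.PicCl (XTmap_fst XTmap_snd XTmap_comp)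
open Groth.Agent.CBC.PicSep (xt_square pullCl_eq_iff factor_of_mem_range)

variable {X S : Scheme.{u}} {f : X ⟶ S} {P : Over S} {φ : ∀ T : Over S, PicF.Cl (PicF.XT f T) → (T ⟶ P)}

theorem ofArrows_mem_fppf {T : Scheme.{u}} {ι : Type u} (U : ι → T.Etale) (hU : EtCoh.Covers U) :
    Presieve.ofArrows (fun i => (U i).left) (fun i => (U i).hom) ∈ Scheme.fppfPrecoverage T := by
  refine (Scheme.ofArrows_mem_precoverage_iff _).mpr ⟨fun x => ?_, fun i => ?_⟩
  · obtain ⟨i, y, hy⟩ := hU x
    exact ⟨i, y, hy⟩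
  · haveI : Etale (U i).hom := (U i).prop
    exact ⟨inferInstance, inferInstance⟩

/-- Representing the étale sheafification gives the fppf local properties. -/
theorem isRelPicK_of_isRelPic (h : PicRel.IsRelPic f P φ) :
    AbDual.IsRelPicK Scheme.fppfPrecoverage f P φ where
  natural := h.natural
  locallySurjective T g := by
    obtain ⟨ι, U, hU, hc⟩ := h.locallySurjective T g
    refine ⟨_, ofArrows_mem_fppf U hU, ?_⟩
    rintro _ _ ⟨i⟩
    exact hc i
  locallyInjective T c c' hc hc' he := by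
    obtain ⟨ι, U, hU, hh⟩ := h.locallyInjective T c c' hc hc' he
    refine ⟨_, ofArrows_mem_fppf U hU, ?_⟩
    rintro _ _ ⟨i⟩
    exact hh i

variable (hP : AbDual.IsRelPicK Scheme.fppfPrecoverage f P φ)

/-- A covering of the spectrum of an algebraically closed field has a section. -/
theorem exists_section {Ω : Type u} [Field Ω] [IsAlgClosed Ω] {U : Scheme.{u}}
    (v : U ⟶ Spec (CommRingCat.of Ω)) [LocallyOfFiniteType v] [Nonempty U] :
    ∃ σ : Spec (CommRingCat.of Ω) ⟶ U, σ ≫ v = 𝟙 _ := by
  haveI : JacobsonSpace ↥(Spec (CommRingCat.of Ω)) := inferInstanceAs (JacobsonSpace (PrimeSpectrum Ω))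
  haveI : JacobsonSpace U := LocallyOfFiniteType.jacobsonSpace v
  obtain ⟨w, -, hw⟩ := nonempty_inter_closedPoints (Z := (Set.univ : Set U)) Set.univ_nonempty
    isOpen_univ.isLocallyClosed
  haveI := isClosed_singleton_iff_isClosedImmersion.mp hw
  haveI hfin : IsFinite (U.fromSpecResidueField w ≫ v) :=
    (isFinite_iff_locallyOfFiniteType_of_jacobsonSpace (f := U.fromSpecResidueField w ≫ v)).mpr
      inferInstance
  obtain ⟨i, hi⟩ := Spec.map_surjective (U.fromSpecResidueField w ≫ v)
  rw [← hi, IsFinite.SpecMap_iff] at hfin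
  letI : Algebra Ω (U.residueField w) := i.hom.toAlgebra
  haveI : Module.Finite Ω (U.residueField w) := hfin
  have hb : Function.Bijective (algebraMap Ω (U.residueField w)) :=
    IsAlgClosed.algebraMap_bijective_of_isIntegral
  haveI : IsIso i := (ConcreteCategory.isIso_iff_bijective i).mpr hb
  refine ⟨Spec.map (inv i) ≫ U.fromSpecResidueField w, ?_⟩
  rw [Category.assoc, ← hi, ← Spec.map_comp, IsIso.hom_inv_id, Spec.map_id]

include hP in
/-- Equality of two points at a geometric point is triviality of the difference class there. -/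
theorem eq_at_geom_iff (T : Over S) {Ω : Type u} [Field Ω] [IsAlgClosed Ω]
    (t : Spec (CommRingCat.of Ω) ⟶ T.left) (c c' : PicLoc.PicSet (PicF.XT f T)) :
    AbDual.ovrHom T t ≫ φ T c.1 = AbDual.ovrHom T t ≫ φ T c'.1 ↔
      pl (PicF.XTmap f (AbDual.ovrHom T t)) (c * c'⁻¹) = 1 := by
  let T' := AbDual.ovr T t
  let h : T' ⟶ T := AbDual.ovrHom T t
  rw [← hP.natural T T' h c.1 c.2, ← hP.natural T T' h c'.1 c'.2]
  refine ⟨fun heq => ?_, fun h1 => congrArg (φ T') ((pullCl_eq_iff f h c c').2 h1)⟩
  obtain ⟨R, hR, hinj⟩ := hP.locallyInjective T' _ _ (pl (PicF.XTmap f h) c).2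
    (pl (PicF.XTmap f h) c').2 heq
  obtain ⟨pt⟩ : Nonempty ↥(Spec (CommRingCat.of Ω)) :=
    inferInstanceAs (Nonempty (PrimeSpectrum Ω))
  obtain ⟨_, _, @⟨U, u, hu⟩, z, -⟩ := hR.1 pt
  haveI : LocallyOfFinitePresentation u := (hR.2 hu).2
  haveI : Nonempty U := ⟨z⟩
  obtain ⟨σ, hσ⟩ := exists_section (Ω := Ω) u
  let T₂ := AbDual.ovr T' u
  let h₂ : T₂ ⟶ T' := AbDual.ovrHom T' u
  let s : T' ⟶ T₂ := Over.homMk σ (by
    change σ ≫ u ≫ T'.hom = T'.hom
    exact (Category.assoc _ _ _).symm.trans ((congrArg (· ≫ T'.hom) hσ).trans (Category.id_comp _)))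
  have hs : s ≫ h₂ = 𝟙 T' := Over.OverMorphism.ext hσ
  have h1 : pl (PicF.XTmap f h₂) (pl (PicF.XTmap f h) (c * c'⁻¹)) = 1 := by
    have e := (pullCl_eq_iff f h₂ (pl (PicF.XTmap f h) c) (pl (PicF.XTmap f h) c')).1 (hinj u hu)
    rwa [← map_inv, ← map_mul] at e
  have h2 : pl (PicF.XTmap f s) (pl (PicF.XTmap f h₂) (pl (PicF.XTmap f h) (c * c'⁻¹))) = 1 := by
    rw [h1, map_one]
  rwa [← PicLaw.pl_comp (PicF.XTmap f s), ← XTmap_comp, hs,
    show PicF.XTmap f (𝟙 T') = 𝟙 _ by apply pullback.hom_ext <;> simp [PicF.XTmap],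
    PicLaw.pl_id] at h2

variable [IsProper f] [Smooth f]

include hP in
/-- Equality of two points at a point is triviality over the points of the Stein factorisation above it. -/
theorem eq_at_point_iff (T : Over S) {M : (PicF.XT f T).Modules} (hM : PicF.IsInvertible M)
    (c c' : PicLoc.PicSet (PicF.XT f T)) (hMc : c * c'⁻¹ = PicGrp.cls M hM) (x : T.left) :
    AbDual.ovrHom T (T.left.fromSpecResidueField x) ≫ φ T c.1 =
        AbDual.ovrHom T (T.left.fromSpecResidueField x) ≫ φ T c'.1 ↔
      ∀ z, (pullback.snd f T.hom).fromNormalization z = x → z ∈ triv (pullback.snd f T.hom) M := by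
  let Ω := AlgebraicClosure (T.left.residueField x)
  let e : Spec (CommRingCat.of Ω) ⟶ Spec (T.left.residueField x) :=
    Spec.map (CommRingCat.ofHom (algebraMap (T.left.residueField x) Ω))
  haveI : Flat e := Flat.SpecMap_iff.mpr (RingHom.flat_algebraMap_iff.mpr inferInstance)
  haveI : Subsingleton ↥(Spec (T.left.residueField x)) :=
    inferInstanceAs (Subsingleton (PrimeSpectrum (T.left.residueField x)))
  haveI : AlgebraicGeometry.Surjective e := ⟨fun a => ⟨Classical.arbitrary _, Subsingleton.elim _ _⟩⟩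
  haveI : Epi e := Flat.epi_of_flat_of_surjective _
  let t := e ≫ T.left.fromSpecResidueField x
  have hA : ∀ a b : T ⟶ P, AbDual.ovrHom T (T.left.fromSpecResidueField x) ≫ a =
      AbDual.ovrHom T (T.left.fromSpecResidueField x) ≫ b ↔
        AbDual.ovrHom T t ≫ a = AbDual.ovrHom T t ≫ b := fun a b => by
    constructor
    · intro h
      refine Over.OverMorphism.ext ?_
      change (e ≫ _) ≫ a.left = (e ≫ _) ≫ b.left
      rw [Category.assoc, Category.assoc]
      exact congrArg (e ≫ ·) (congrArg CommaMorphism.left h)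
    · intro h
      refine Over.OverMorphism.ext ((cancel_epi e).1 ?_)
      exact (Category.assoc _ _ _).symm.trans ((congrArg CommaMorphism.left h).trans (Category.assoc _ _ _))
  rw [hA, eq_at_geom_iff hP T t c c', hMc]
  refine (geom_trivial_iff (pullback.snd f T.hom) hM t _ _ (xt_square f (AbDual.ovrHom T t))).trans ?_
  have hr : Set.range t = {x} := by
    ext a
    constructor
    · rintro ⟨p, rfl⟩
      exact (Scheme.Hom.comp_apply _ _ _).trans (Scheme.fromSpecResidueField_apply _ _)
    · rintro rfl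
      obtain ⟨p⟩ : Nonempty ↥(Spec (CommRingCat.of Ω)) := inferInstanceAs (Nonempty (PrimeSpectrum Ω))
      exact ⟨p, (Scheme.Hom.comp_apply _ _ _).trans (Scheme.fromSpecResidueField_apply _ _)⟩
  simp [hr]

include hP in
/-- `P → S` is separated -/
theorem isSeparated : IsSeparated P.hom := by
  let Δ := pullback.diagonal P.hom
  refine ⟨IsClosedImmersion.of_isPreimmersion Δ ?_⟩
  let Q : Over S := Over.mk (pullback.fst P.hom P.hom ≫ P.hom)
  let a : Q ⟶ P := Over.homMk (pullback.fst P.hom P.hom) rfl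
  let b : Q ⟶ P := Over.homMk (pullback.snd P.hom P.hom) pullback.condition.symm
  rw [← isOpen_compl_iff]
  refine isOpen_iff_forall_mem_open.2 fun q hq => ?_
  obtain ⟨R₁, hR₁, h₁⟩ := hP.locallySurjective Q a
  obtain ⟨_, _, @⟨U, u, hu⟩, z, hz⟩ := hR₁.1 q
  obtain ⟨ca, hca, hca'⟩ := h₁ u hu
  let T₁ := AbDual.ovr Q u
  obtain ⟨R₂, hR₂, h₂⟩ := hP.locallySurjective T₁ (AbDual.ovrHom Q u ≫ b)
  obtain ⟨_, _, @⟨V, v, hv⟩, y, hy⟩ := hR₂.1 z
  obtain ⟨cb, hcb, hcb'⟩ := h₂ v hv
  let T₂ := AbDual.ovr T₁ v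
  let i : T₂ ⟶ Q := AbDual.ovrHom T₁ v ≫ AbDual.ovrHom Q u
  let c : PicLoc.PicSet (PicF.XT f T₂) := pl (PicF.XTmap f (AbDual.ovrHom T₁ v)) ⟨ca, hca⟩
  let c' : PicLoc.PicSet (PicF.XT f T₂) := ⟨cb, hcb⟩
  have ha : φ T₂ c.1 = i ≫ a := by
    refine (hP.natural T₁ T₂ (AbDual.ovrHom T₁ v) ca hca).trans ?_
    rw [hca', Category.assoc]
  have hb : φ T₂ c'.1 = i ≫ b := by
    change φ (AbDual.ovr T₁ v) cb = _
    rw [hcb', Category.assoc]
  obtain ⟨M, hM, hMc⟩ := PicGrp.exists_eq_cls (c * c'⁻¹)
  let π := pullback.snd f T₂.hom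
  let bad : Set V := {x | ∀ w, π.fromNormalization w = x → w ∈ triv π M}
  have hiff : ∀ x : V, i.left x ∈ Set.range Δ ↔ x ∈ bad := fun x => by
    refine Iff.trans ?_ (eq_at_point_iff hP T₂ hM c c' hMc x)
    rw [ha, hb]
    constructor
    · intro hx
      obtain ⟨w, hw⟩ := factor_of_mem_range Δ i.left x hx
      refine Over.OverMorphism.ext ?_
      change V.fromSpecResidueField x ≫ i.left ≫ pullback.fst P.hom P.hom =
        V.fromSpecResidueField x ≫ i.left ≫ pullback.snd P.hom P.hom
      refine ((Category.assoc _ _ _).symm.trans ((congrArg (· ≫ pullback.fst P.hom P.hom) hw.symm).trans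
        ?_)).trans ((congrArg (· ≫ pullback.snd P.hom P.hom) hw).trans (Category.assoc _ _ _))
      simp [Δ]
    · intro he
      have he' : V.fromSpecResidueField x ≫ i.left ≫ pullback.fst P.hom P.hom =
          V.fromSpecResidueField x ≫ i.left ≫ pullback.snd P.hom P.hom :=
        congrArg CommaMorphism.left he
      have hw : (V.fromSpecResidueField x ≫ i.left ≫ pullback.fst P.hom P.hom) ≫ Δ =
          V.fromSpecResidueField x ≫ i.left := by
        apply pullback.hom_ext
        · simp [Δ]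
        · simp only [Δ, Category.assoc, pullback.diagonal_snd, Category.comp_id]
          exact he'
      obtain ⟨pt⟩ : Nonempty ↥(Spec (V.residueField x)) :=
        inferInstanceAs (Nonempty (PrimeSpectrum (V.residueField x)))
      refine ⟨(V.fromSpecResidueField x ≫ i.left ≫ pullback.fst P.hom P.hom) pt, ?_⟩
      rw [← Scheme.Hom.comp_apply, hw, Scheme.Hom.comp_apply, Scheme.fromSpecResidueField_apply]
  have hbad : IsClosed bad := by
    haveI := (stein_etale π).2
    rw [← isOpen_compl_iff, show badᶜ = π.fromNormalization '' (triv π M)ᶜ by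
      ext x
      simp only [bad, Set.mem_compl_iff, Set.mem_setOf_eq, not_forall, Set.mem_image]
      exact ⟨fun ⟨w, h1, h2⟩ => ⟨w, h2, h1⟩, fun ⟨w, h2, h1⟩ => ⟨w, h1, h2⟩⟩]
    exact π.fromNormalization.isOpenMap _ (isClosed_triv π hM).isOpen_compl
  have hopen : IsOpenMap i.left := by
    haveI := (hR₁.2 hu).1
    haveI := (hR₁.2 hu).2
    haveI := (hR₂.2 hv).1
    haveI := (hR₂.2 hv).2
    change IsOpenMap (v ≫ u)
    exact (v ≫ u).isOpenMap
  refine ⟨i.left '' badᶜ, ?_, hopen _ hbad.isOpen_compl, ⟨y, ?_, ?_⟩⟩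
  · rintro _ ⟨x, hx, rfl⟩ hmem
    exact hx ((hiff x).1 hmem)
  · intro hy'
    refine hq ?_
    have h := (hiff y).2 hy'
    change u (v y) ∈ _ at h
    rwa [show v y = z from hy, show u z = q from hz] at h
  · change u (v y) = q
    rw [show v y = z from hy]; exact hz

include hP in
/-- closed subschemes of finite type are proper -/
theorem isProper_closed [IsLocallyNoetherian S] {Z : Scheme.{u}} (i : Z ⟶ P.left) [IsClosedImmersion i]
    [LocallyOfFiniteType (i ≫ P.hom)] [QuasiCompact (i ≫ P.hom)] : IsProper (i ≫ P.hom) := by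
  haveI := isSeparated hP
  refine S9209.result (i ≫ P.hom) (𝟙 Z) ?_ ?_
  · exact fun x => subset_closure ⟨x, rfl⟩
  · intro A _ _ _ u y hu
    let gen : Spec (CommRingCat.of (FractionRing A)) ⟶ Spec (CommRingCat.of A) :=
      Spec.map (CommRingCat.ofHom (algebraMap A (FractionRing A)))
    let gK : AbDual.ovr (Over.mk y) gen ⟶ P := Over.homMk (u ≫ i) (by
      change (u ≫ i) ≫ P.hom = gen ≫ y
      rw [Category.assoc]; simpa using hu)
    obtain ⟨gR, hgR⟩ := CBC.PicDVR.exists_lift f P φ hP A y gK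
    have hgen : gen ≫ gR.left = u ≫ i := congrArg CommaMorphism.left hgR
    let j := pullback.fst gR.left i
    haveI : AlgebraicGeometry.Surjective j := by
      refine ⟨fun p => ?_⟩
      obtain ⟨k⟩ : Nonempty ↥(Spec (CommRingCat.of (FractionRing A))) :=
        inferInstanceAs (Nonempty (PrimeSpectrum (FractionRing A)))
      have hd : DenseRange gen := by
        change DenseRange (PrimeSpectrum.comap (algebraMap A (FractionRing A)))
        rw [PrimeSpectrum.denseRange_comap_iff_ker_le_nilRadical,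
          (RingHom.injective_iff_ker_eq_bot _).mp (IsFractionRing.injective A (FractionRing A))]
        exact bot_le
      have hsub : Set.range gen ⊆ Set.range j := by
        rintro _ ⟨k', rfl⟩
        refine ⟨(pullback.lift gen u hgen) k', ?_⟩
        have h1 : pullback.lift gen u hgen ≫ j = gen := pullback.lift_fst _ _ _
        exact (Scheme.Hom.comp_apply (pullback.lift gen u hgen) j k').symm.trans (by rw [h1])
      have : closure (Set.range gen) ⊆ Set.range j :=
        closure_minimal hsub j.isClosedEmbedding.isClosed_range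
      exact this (hd p)
    haveI : AlgebraicGeometry.IsReduced (Over.mk y).left :=
      inferInstanceAs (AlgebraicGeometry.IsReduced (Spec (CommRingCat.of A)))
    haveI : IsIso j := isIso_of_isClosedImmersion_of_surjective j
    refine ⟨inv j ≫ pullback.snd gR.left i, ?_, ?_⟩
    · rw [Category.assoc, ← pullback.condition_assoc, IsIso.inv_hom_id_assoc]
      exact Over.w gR
    · rw [← cancel_mono i]
      simp only [Category.assoc, Category.id_comp]
      rw [← pullback.condition, IsIso.inv_hom_id_assoc]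
      exact hgen

end Groth.Agent.PicSep28

end
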